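import Cfsg.Agent.ChevGrp.Simple
import Cfsg.Agent.ChevGrp.Torus

/-!
Two-generation of Chevalley groups (owner: helper50): `⟨h·x_c(1)[·x_d(1)], n_w⟩` is the whole group, given a
decidable closure certificate on the tables.
-/

set_option autoImplicit false

namespace Cfsg.Agent.ChevTwoGen

open Cfsg.Lie Cfsg.Agent.ChevGrp
open scoped MatrixGroups

/-- Validity of one derivation step from the known roots `L`: `(r, r, k)` says `w r = k`; `(r, s, k)` says that `k`
is the only term outside `L` of `[x_r, x_s]`, its coefficient a sign and one of its exponents one. -/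
def valid (D : ChevalleyDatum) (w : List (Fin D.rank)) (L : List ℕ) (p : ℕ × ℕ × ℕ) : Bool :=
  L.contains p.1 && L.contains p.2.1 &&
    if p.1 = p.2.1 then act D w p.1 == p.2.2
    else !(p.2.1 == D.neg p.1) &&
      match (D.commTerms p.1 p.2.1).filter (fun c => !L.contains c.1) with
      | [c] => c.1 == p.2.2 && (c.2.1 == 1 || c.2.1 == -1) && (c.2.2.1 == 1 || c.2.2.2 == 1)
      | _ => false

/-- The steps `ps` are valid from `L` and end in a list containing `goal`; the list grows by the roots named in the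
certificate, so it stays a literal during evaluation. -/
def chk (D : ChevalleyDatum) (w : List (Fin D.rank)) (goal : List ℕ) : List ℕ → List (ℕ × ℕ × ℕ) → Bool
  | L, [] => goal.all fun r => L.contains r
  | L, p :: ps => valid D w L p && chk D w goal (p.2.2 :: L) ps

/-- The exponent of the torus element given by `v` on the root `s`. -/
def expo (D : ChevalleyDatum) (v : List ℤ) (s : ℕ) : ℤ :=
  ((List.finRange D.rank).map fun j : Fin D.rank => v.getD j.val 0 * D.cartan j s).sum

/-- The word `w` repeated `n` times. -/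
def pw {α : Type*} (w : List α) (n : ℕ) : List α := (List.replicate n w).flatten

theorem finite_subring_eq_top {F : Type*} [Field F] [Finite F] (R : Subring F)
    (h : ∀ x : F, x ^ 2 ∈ R) : R = ⊤ := by
  rw [eq_top_iff]
  rintro x -
  by_cases h2 : (2 : F) = 0
  · have hinj : Function.Injective fun y : F => y ^ 2 := by
      intro a b e
      have e' : (a - b) ^ 2 = 0 := by
        have : (a - b) ^ 2 = a ^ 2 - b ^ 2 := by linear_combination (b ^ 2 - a * b) * h2
        rw [this, show a ^ 2 = b ^ 2 from e, sub_self]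
      exact sub_eq_zero.1 ((pow_eq_zero_iff (by norm_num)).1 e')
    obtain ⟨y, rfl⟩ := Finite.surjective_of_injective hinj x
    exact h y
  · have e : x = (x / 2 + 1) ^ 2 - (x / 2) ^ 2 - 1 := by
      field_simp
      ring
    rw [e]
    exact sub_mem (sub_mem (h _) (h _)) (one_mem R)

theorem eq_top_of_smul_mem {F : Type*} [Field F] [Finite F] (A : AddSubgroup F) {g : Fˣ}
    (hg : ∀ u : Fˣ, u ∈ Submonoid.powers g) {e : ℤ} (he : e = 1 ∨ e = -1 ∨ e = 2 ∨ e = -2)
    (hA : ∀ a ∈ A, ((g ^ e : Fˣ) : F) * a ∈ A) {a₀ : F} (h0 : a₀ ∈ A) (hne : a₀ ≠ 0) : ∀ a, a ∈ A := by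
  let R : Subring F :=
    { carrier := {l | ∀ a ∈ A, l * a ∈ A}
      one_mem' := fun a ha => by simpa using ha
      mul_mem' := fun {l m} hl hm a ha => by rw [mul_assoc]; exact hl _ (hm a ha)
      zero_mem' := fun a _ => by rw [zero_mul]; exact A.zero_mem
      add_mem' := fun {l m} hl hm a ha => by rw [add_mul]; exact A.add_mem (hl a ha) (hm a ha)
      neg_mem' := fun {l} hl a ha => by rw [neg_mul]; exact A.neg_mem (hl a ha) }
  have hge : ((g ^ e : Fˣ) : F) ∈ R := hA
  have hall : ∀ k : ℕ, (((g ^ e) ^ k : Fˣ) : F) ∈ R := fun k => by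
    rw [Units.val_pow_eq_pow_val]; exact pow_mem hge k
  have hR : R = ⊤ := by
    apply finite_subring_eq_top
    intro x
    by_cases hx : x = 0
    · rw [hx]; simp [R.zero_mem]
    have hu : (Units.mk0 x hx) ^ 2 ∈ Subgroup.zpowers (g ^ e) := by
      have hg' : ∀ u : Fˣ, u ∈ Subgroup.zpowers g := fun u => by
        obtain ⟨k, rfl⟩ := Submonoid.mem_powers_iff _ _ |>.1 (hg u)
        exact pow_mem (Subgroup.mem_zpowers g) k
      obtain ⟨k, hk⟩ := Subgroup.mem_zpowers_iff.1 (hg' (Units.mk0 x hx))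
      rw [Subgroup.mem_zpowers_iff]
      rw [← hk]
      rcases he with rfl | rfl | rfl | rfl
      · exact ⟨2 * k, by group⟩
      · exact ⟨-(2 * k), by group⟩
      · exact ⟨k, by group⟩
      · exact ⟨-k, by group⟩
    obtain ⟨n, hn⟩ := Submonoid.mem_powers_iff _ _ |>.1
      (mem_powers_iff_mem_zpowers.2 hu : (Units.mk0 x hx) ^ 2 ∈ Submonoid.powers (g ^ e))
    have hv := hall n
    rw [hn] at hv
    simpa using hv
  intro a
  have : a / a₀ ∈ R := hR ▸ Subring.mem_top _
  simpa [hne] using this a₀ h0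

variable {D : ChevalleyDatum} {F : Type*} [Field F] {G : Type*} [Group G] {len : ℕ → ℕ}

section Closure

variable (S : Sys D F G) (M : Subgroup G)

/-- The whole root subgroup of `r` lies in `M`. -/
def Known (r : ℕ) : Prop := r < D.nroots ∧ ∀ t : F, S.x r t ∈ M

theorem known_act (hR : RootTable D len) {g : G} (hg : g ∈ M) {w : List (Fin D.rank)} (hc : S.ConjP g w)
    {r : ℕ} (hr : Known S M r) : Known S M (act D w r) := by
  obtain ⟨a, ha, hga⟩ := hc
  refine ⟨hR.act_lt w hr.1, fun t => ?_⟩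
  have h0 : a r ≠ 0 := right_ne_zero_of_mul_eq_one (ha r hr.1)
  have e := hga r hr.1 (t / a r)
  rw [mul_div_cancel₀ t h0] at e
  rw [← e]
  exact mul_mem (mul_mem hg (hr.2 _)) (inv_mem hg)

theorem mem_of_prod_mem {ι : Type*} (f : ι → G) (L₁ L₂ : List ι) (k : ι)
    (h1 : ∀ x ∈ L₁, f x ∈ M) (h2 : ∀ x ∈ L₂, f x ∈ M) (h : ((L₁ ++ k :: L₂).map f).prod ∈ M) :
    f k ∈ M := by
  rw [List.map_append, List.prod_append, List.map_cons, List.prod_cons] at h
  have e1 : (L₁.map f).prod ∈ M := list_prod_mem fun x hx => by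
    obtain ⟨y, hy, rfl⟩ := List.mem_map.1 hx
    exact h1 y hy
  have e2 : (L₂.map f).prod ∈ M := list_prod_mem fun x hx => by
    obtain ⟨y, hy, rfl⟩ := List.mem_map.1 hx
    exact h2 y hy
  exact (M.mul_mem_cancel_right e2).1 ((M.mul_mem_cancel_left e1).1 h)

theorem comm_word_mem {r s : ℕ} (hr : r < D.nroots) (hs : s < D.nroots) (hne : s ≠ r)
    (hn : s ≠ D.neg r) {t u : F} (h1 : S.x r t ∈ M) (h2 : S.x s u ∈ M) :
    ((D.commWord F r s t u).map fun p => S.x p.1 p.2).prod ∈ M := by
  have e := S.comm r hr s hs hne hn t u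
  exact (M.mul_mem_cancel_left (mul_mem h1 h2)).1 (e ▸ mul_mem h2 h1)

theorem known_comm (hR : RootTable D len) {L : List ℕ} (hL : ∀ r ∈ L, Known S M r) {r s : ℕ}
    (hr : r ∈ L) (hs : s ∈ L) (hne : s ≠ r) (hn : s ≠ D.neg r) {c : ℕ × ℤ × ℕ × ℕ}
    (hc : (D.commTerms r s).filter (fun c => decide (c.1 ∉ L)) = [c])
    (hC : c.2.1 = 1 ∨ c.2.1 = -1) (hij : c.2.2.1 = 1 ∨ c.2.2.2 = 1) : Known S M c.1 := by
  obtain ⟨hrl, hrm⟩ := hL r hr
  obtain ⟨hsl, hsm⟩ := hL s hs
  have hmem : c ∈ (D.commTerms r s).filter (fun c => decide (c.1 ∉ L)) := by rw [hc]; simp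
  have hmem' := List.mem_of_mem_filter hmem
  obtain ⟨L₁, L₂, e⟩ := List.append_of_mem hmem'
  refine ⟨(hR.commTerms_vec r hrl s hsl hne hn c hmem').1, fun z => ?_⟩
  have hknown : ∀ x, x ∈ L₁ ∨ x ∈ L₂ → x.1 ∈ L := by
    intro x hx
    by_contra hx'
    rw [e, List.filter_append, List.filter_cons_of_pos (by simpa using List.of_mem_filter hmem)] at hc
    have hl := congrArg List.length hc
    simp only [List.length_append, List.length_cons, List.length_nil] at hl
    have p1 : ∀ T : List (ℕ × ℤ × ℕ × ℕ), x ∈ T → 0 < (T.filter (fun c => decide (c.1 ∉ L))).length :=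
      fun T hT => List.length_pos_of_mem (List.mem_filter.2 ⟨hT, by simpa using hx'⟩)
    rcases hx with h | h <;> have := p1 _ h <;> omega
  have hC0 : ((c.2.1 : ℤ) : F) * ((c.2.1 : ℤ) : F) = 1 := by rcases hC with h | h <;> simp [h]
  obtain ⟨t, u, htu⟩ : ∃ t u : F, ((c.2.1 : ℤ) : F) * (-t) ^ c.2.2.1 * u ^ c.2.2.2 = z := by
    rcases hij with h | h
    · refine ⟨-(((c.2.1 : ℤ) : F) * z), 1, ?_⟩
      rw [h, one_pow, pow_one, neg_neg, mul_one, ← mul_assoc, hC0, one_mul]
    · refine ⟨-1, ((c.2.1 : ℤ) : F) * z, ?_⟩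
      rw [h, neg_neg, one_pow, pow_one, mul_one, ← mul_assoc, hC0, one_mul]
  have hw := comm_word_mem S M hrl hsl hne hn (hrm t) (hsm u)
  rw [ChevalleyDatum.commWord, List.map_map, e] at hw
  have := mem_of_prod_mem M _ L₁ L₂ c
    (fun x hx => (hL _ (hknown x (Or.inl hx))).2 _) (fun x hx => (hL _ (hknown x (Or.inr hx))).2 _) hw
  simpa [htu] using this

theorem known_valid (hR : RootTable D len) {g : G} (hg : g ∈ M) {w : List (Fin D.rank)}
    (hw : S.ConjP g w) {L : List ℕ} (hL : ∀ r ∈ L, Known S M r) {p : ℕ × ℕ × ℕ} (h : valid D w L p = true) :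
    Known S M p.2.2 := by
  obtain ⟨r, s, k⟩ := p
  simp only [valid, Bool.and_eq_true, List.contains_iff_mem] at h
  obtain ⟨⟨hr, hs⟩, h⟩ := h
  split at h
  · rw [beq_iff_eq] at h
    exact h ▸ known_act S M hR hg hw (hL _ hr)
  · rename_i hne
    simp only [Bool.and_eq_true, Bool.not_eq_true', beq_eq_false_iff_ne] at h
    obtain ⟨hn, h⟩ := h
    split at h
    · rename_i c hc
      simp only [Bool.and_eq_true, Bool.or_eq_true, beq_iff_eq] at h
      obtain ⟨⟨hk, hC⟩, hij⟩ := h
      have := known_comm S M hR hL hr hs (Ne.symm hne) hn (c := c) (by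
        rw [← hc]
        refine List.filter_congr fun x _ => ?_
        simp) hC hij
      rwa [hk] at this
    · simp at h

theorem known_chk (hR : RootTable D len) {g : G} (hg : g ∈ M) {w : List (Fin D.rank)} (hw : S.ConjP g w)
    {goal : List ℕ} : ∀ (ps : List (ℕ × ℕ × ℕ)) {L : List ℕ}, (∀ r ∈ L, Known S M r) →
      chk D w goal L ps = true → ∀ r ∈ goal, Known S M r
  | [], L, hL, h => fun r hr => by
    simp only [chk, List.all_eq_true, List.contains_iff_mem] at h
    exact hL r (h r hr)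
  | p :: ps, L, hL, h => by
    simp only [chk, Bool.and_eq_true] at h
    refine known_chk hR hg hw ps (fun r hr => ?_) h.2
    rcases List.mem_cons.1 hr with rfl | hr
    · exact known_valid S M hR hg hw hL h.1
    · exact hL r hr

/-- A non-trivial element of a root subgroup in `M` and a torus element of full multiplicative order on it give
the whole root subgroup. -/
theorem known_of_torus [Finite F] {r : ℕ} (hr : r < D.nroots) {h : G} (hh : h ∈ M) {g : Fˣ}
    (hg : ∀ u : Fˣ, u ∈ Submonoid.powers g) {e : ℤ} (he : e = 1 ∨ e = -1 ∨ e = 2 ∨ e = -2)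
    (hconj : ∀ t : F, h * S.x r t * h⁻¹ = S.x r (((g ^ e : Fˣ) : F) * t)) {t₀ : F} (h0 : t₀ ≠ 0)
    (hx : S.x r t₀ ∈ M) : Known S M r := by
  refine ⟨hr, ?_⟩
  let A : AddSubgroup F :=
    { carrier := {t | S.x r t ∈ M}
      zero_mem' := by
        show S.x r 0 ∈ M
        rw [S.x_zero hr]; exact one_mem M
      add_mem' := fun {a b} ha hb => by
        show S.x r (a + b) ∈ M
        rw [← S.x_add r hr]; exact mul_mem ha hb
      neg_mem' := fun {a} ha => by
        show S.x r (-a) ∈ M
        rw [← S.x_inv hr]; exact inv_mem ha }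
  refine eq_top_of_smul_mem A hg he (fun a ha => ?_) (show t₀ ∈ A from hx) h0
  show S.x r _ ∈ M
  rw [← hconj a]
  exact mul_mem (mul_mem hh ha) (inv_mem hh)

end Closure

section Torus

variable (S : Sys D F G)

theorem tau_conj (hS : Rules D F) (hR : RootTable D len) (hM : S.HMul) (c : Fin D.rank → Fˣ) :
    ∀ s < D.nroots, ∀ t : F, S.tau hS hR hM c * S.x s t * (S.tau hS hR hM c)⁻¹ =
      S.x s (((∏ j : Fin D.rank, c j ^ D.cartan j s : Fˣ) : F) * t) := by
  induction c using Pi.mulSingle_induction with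
  | one => intro s hs t; simp
  | mul f g hf hg =>
    intro s hs t
    rw [map_mul, mul_inv_rev,
      show ∀ A B X : G, A * B * X * (B⁻¹ * A⁻¹) = A * (B * X * B⁻¹) * A⁻¹ from fun A B X => by group,
      hg s hs, hf s hs]
    simp only [Pi.mul_apply, mul_zpow, Finset.prod_mul_distrib, Units.val_mul, mul_assoc]
  | mulSingle i u =>
    intro s hs t
    have e : S.tau hS hR hM (Pi.mulSingle i u) = S.hEl (D.simple i) u := by
      rw [Sys.tau, MonoidHom.noncommPiCoprod_mulSingle]
      rfl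
    rw [e, S.conjP_hI hS hR i u.ne_zero s hs t]
    congr 2
    rw [Finset.prod_eq_single i (fun j _ hj => by simp [Pi.mulSingle_eq_of_ne hj]) (by simp),
      Pi.mulSingle_eq_same, Units.val_zpow_eq_zpow_val]

theorem prod_zpow_sum {ι M : Type*} [CommGroup M] (g : M) (f : ι → ℤ) :
    ∀ l : List ι, (l.map fun j => g ^ f j).prod = g ^ (l.map f).sum
  | [] => by simp
  | a :: l => by simp [prod_zpow_sum g f l, zpow_add]

theorem prod_expo (g : Fˣ) (v : List ℤ) (s : ℕ) :
    (∏ j : Fin D.rank, (g ^ v.getD j.val 0) ^ D.cartan j s) = g ^ expo D v s := by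
  rw [expo, ← prod_zpow_sum, ← List.ofFn_eq_map, List.prod_ofFn]
  exact Finset.prod_congr rfl fun j _ => (zpow_mul g _ _).symm

end Torus

end Cfsg.Agent.ChevTwoGen
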