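import Cfsg.Agent.ChevTwoGen.Two
import Cfsg.Agent.Chev.Rules

/-!
Two-generation certificates for the seven tabulated data (owner: helper50).
-/

set_option autoImplicit false
set_option maxRecDepth 100000

namespace Cfsg.Agent.ChevTwoGen

open Cfsg.Lie Cfsg.Agent.ChevGrp

variable {F : Type*} [Field F]

theorem two_generated_G2 [Finite F] (hS : Rules chevG2 F) (hF : ∃ x : F, x ≠ 0 ∧ x ≠ 1) :
    ∃ a b : ↥(chevG2.group F), Subgroup.closure ({a, b} : Set ↥(chevG2.group F)) = ⊤ :=
  two_generated_two hS hF (List.finRange _) [0, 1] 2 1 1 3 0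
    [(3, 3, 7), (0, 0, 5), (7, 7, 9), (5, 5, 10), (9, 9, 8), (10, 10, 11), (8, 8, 4), (11, 11, 6), (0, 6, 1), (7, 1, 2)]
    (by decide +kernel) (by decide +kernel) (by decide +kernel) (by decide +kernel) (by decide +kernel)
    (by decide +kernel) (by decide +kernel) (by decide +kernel) (by decide +kernel)

theorem two_generated_B2 [Finite F] (hS : Rules chevB2 F) (hF : ∃ x : F, x ≠ 0 ∧ x ≠ 1) :
    ∃ a b : ↥(chevB2.group F), Subgroup.closure ({a, b} : Set ↥(chevB2.group F)) = ⊤ :=
  two_generated_two hS hF (List.finRange _) [0, 1] 0 1 1 3 5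
    [(3, 3, 7), (5, 5, 6), (7, 7, 4), (6, 6, 2), (4, 4, 0), (2, 2, 1)]
    (by decide +kernel) (by decide +kernel) (by decide +kernel) (by decide +kernel) (by decide +kernel)
    (by decide +kernel) (by decide +kernel) (by decide +kernel) (by decide +kernel)

theorem two_generated_D4 [Finite F] (hS : Rules chevD4 F) (hF : ∃ x : F, x ≠ 0 ∧ x ≠ 1) :
    ∃ a b : ↥(chevD4.group F), Subgroup.closure ({a, b} : Set ↥(chevD4.group F)) = ⊤ :=
  two_generated_two hS hF (List.finRange _) [0, 0, 0, 1] 5 2 1 9 8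
    [(9, 9, 1), (8, 8, 10), (9, 1, 0), (9, 10, 7), (8, 10, 6), (1, 1, 18), (10, 10, 21), (7, 7, 11), (6, 6, 19), (18, 18, 14), (21, 21, 15), (11, 11, 20), (19, 19, 23), (9, 15, 12), (9, 23, 22), (1, 12, 2), (15, 15, 13), (20, 20, 16), (23, 23, 17), (12, 12, 3), (22, 22, 5), (9, 5, 4)]
    (by decide +kernel) (by decide +kernel) (by decide +kernel) (by decide +kernel) (by decide +kernel)
    (by decide +kernel) (by decide +kernel) (by decide +kernel) (by decide +kernel)

theorem two_generated_F4 [Finite F] (hS : Rules chevF4 F) (hF : ∃ x : F, x ≠ 0 ∧ x ≠ 1) :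
    ∃ a b : ↥(chevF4.group F), Subgroup.closure ({a, b} : Set ↥(chevF4.group F)) = ⊤ :=
  two_generated_two hS hF (List.finRange _) [0, 0, 0, 1] 2 9 1 1 19
    [(1, 1, 0), (19, 19, 11), (19, 11, 8), (0, 0, 15), (11, 11, 33), (8, 8, 18), (15, 15, 21), (33, 33, 27), (18, 18, 34), (21, 21, 41), (27, 27, 35), (34, 34, 37), (41, 41, 45), (35, 35, 38), (37, 37, 44), (1, 45, 22), (1, 44, 42), (45, 45, 46), (38, 38, 28), (44, 44, 40), (22, 22, 23), (42, 42, 30), (1, 30, 4), (46, 46, 47), (28, 28, 36), (40, 40, 39), (30, 30, 43), (4, 4, 16), (1, 35, 7), (1, 47, 24), (1, 43, 17), (11, 24, 12), (46, 12, 31), (28, 7, 9), (28, 12, 14), (4, 39, 32), (47, 9, 25), (36, 9, 20), (36, 14, 29), (16, 14, 5), (16, 29, 26), (29, 29, 13), (26, 26, 6), (1, 28, 3), (1, 39, 10), (1, 25, 2)]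
    (by decide +kernel) (by decide +kernel) (by decide +kernel) (by decide +kernel) (by decide +kernel)
    (by decide +kernel) (by decide +kernel) (by decide +kernel) (by decide +kernel)

theorem two_generated_E6 [Finite F] (hS : Rules chevE6 F) :
    ∃ a b : ↥(chevE6.group F), Subgroup.closure ({a, b} : Set ↥(chevE6.group F)) = ⊤ :=
  two_generated_one hS (List.finRange _) [1, 0, 0, 0, 0, 0] 2 1 17
    [(17, 17, 31), (31, 31, 33), (33, 33, 62), (62, 62, 68), (17, 68, 57), (68, 68, 53), (57, 57, 50), (17, 53, 35), (17, 50, 30), (68, 35, 67), (53, 53, 66), (50, 50, 64), (35, 35, 63), (30, 30, 61), (67, 67, 71), (66, 66, 45), (64, 64, 69), (63, 63, 43), (71, 71, 70), (17, 45, 24), (17, 43, 22), (17, 70, 59), (53, 24, 44), (50, 24, 42), (45, 45, 14), (69, 69, 54), (43, 43, 48), (70, 70, 55), (24, 24, 12), (22, 22, 46), (59, 59, 52), (44, 44, 49), (42, 42, 47), (17, 14, 3), (17, 55, 37), (17, 12, 1), (17, 52, 32), (17, 49, 28), (17, 47, 26), (53, 1, 11), (53, 32, 51), (45, 3, 10),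 (45, 1, 7), (45, 28, 38), (45, 11, 15), (43, 3, 8), (43, 1, 5), (70, 3, 40), (24, 11, 6), (14, 32, 13), (14, 14, 21), (48, 48, 60), (55, 55, 41), (12, 12, 19), (46, 46, 58), (52, 52, 39), (49, 49, 25), (3, 3, 18), (37, 37, 36), (1, 1, 16), (32, 32, 34), (28, 28, 23), (11, 11, 56), (51, 51, 65), (10, 10, 4), (7, 7, 2), (38, 38, 9), (15, 15, 29), (6, 6, 27), (13, 13, 20), (17, 9, 0)]
    (by decide +kernel) (by decide +kernel) (by decide +kernel) (by decide +kernel) (by decide +kernel)

theorem two_generated_E7 [Finite F] (hS : Rules chevE7 F) :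
    ∃ a b : ↥(chevE7.group F), Subgroup.closure ({a, b} : Set ↥(chevE7.group F)) = ⊤ :=
  two_generated_one hS (List.finRange _) [1, 0, 0, 0, 0, 0, 0] 3 2 34
    [(34, 34, 54), (54, 54, 57), (57, 57, 100), (100, 100, 110), (110, 110, 120), (34, 120, 99), (120, 120, 115), (99, 99, 109), (115, 115, 122), (109, 109, 119), (34, 122, 101), (122, 122, 117), (119, 119, 125), (101, 101, 111), (117, 117, 91), (125, 125, 124), (111, 111, 87), (91, 91, 71), (124, 124, 123), (87, 87, 106), (34, 123, 104), (71, 71, 68), (123, 123, 118), (106, 106, 114), (104, 104, 113), (34, 68, 38), (34, 118, 97), (34, 113, 94), (120, 38, 102), (71, 102, 108), (68, 68, 25), (118, 118, 92), (114, 114, 89), (113, 113, 88), (38, 38, 19), (97, 97, 86), (94, 94, 83), (102, 102, 74), (108, 108, 77), (34, 92, 64), (34, 89, 59), (34, 86, 55), (34, 77, 45), (120, 64, 121), (68, 59, 65), (25, 25, 15), (92, 92, 72), (89, 89, 70), (88, 88, 107), (19, 19, 11), (86, 86, 69), (83, 83, 103), (74, 74, 80), (77, 77, 31), (64,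 64, 63), (59, 59, 61), (55, 55, 58), (45, 45, 28), (121, 121, 116), (65, 65, 24), (34, 15, 1), (34, 72, 41), (34, 70, 39), (34, 107, 93), (34, 80, 48), (34, 31, 12), (34, 63, 35), (34, 61, 33), (34, 28, 7), (34, 116, 95), (34, 24, 3), (120, 1, 49), (120, 41, 105), (120, 12, 79), (122, 1, 51), (122, 12, 81), (122, 7, 78), (71, 49, 52), (68, 39, 42), (68, 12, 16), (68, 33, 37), (68, 7, 10), (68, 95, 98), (68, 3, 6), (68, 79, 82), (118, 33, 96), (118, 3, 47), (113, 3, 44), (38, 79, 50), (25, 49, 13), (25, 78, 29), (15, 95, 40), (15, 15, 5), (72, 72, 26), (70, 70, 67), (107, 107, 76), (11, 11, 36), (69, 69, 66), (103, 103, 112), (63, 63, 23), (61, 61, 62), (58, 58, 60), (116, 116, 90), (24, 24, 14), (1, 1, 2), (41, 41, 21), (39, 39, 56), (93, 93, 73), (35, 35, 17), (33, 33, 53), (95, 95, 84), (3, 3, 8), (49, 49, 43), (105, 105, 75), (52, 52, 46), (42, 42, 22), (37, 37, 18), (98, 98, 32), (6, 6, 0), (96, 96, 85), (47, 47, 30), (44, 44, 27), (13, 13, 4), (40, 40, 20), (34, 30, 9)]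
    (by decide +kernel) (by decide +kernel) (by decide +kernel) (by decide +kernel) (by decide +kernel)

theorem two_generated_E8 [Finite F] (hS : Rules chevE8 F) :
    ∃ a b : ↥(chevE8.group F), Subgroup.closure ({a, b} : Set ↥(chevE8.group F)) = ⊤ :=
  two_generated_one hS (List.finRange _) [1, 0, 0, 0, 0, 0, 0, 0] 0 1 15
    [(15, 15, 21), (21, 21, 36), (36, 36, 78), (78, 78, 105), (105, 105, 169), (169, 169, 184), (184, 184, 204), (204, 204, 226), (226, 226, 234), (234, 234, 235), (235, 235, 236), (15, 236, 170), (236, 236, 237), (170, 170, 185), (15, 237, 171), (237, 237, 238), (185, 185, 205), (171, 171, 186), (15, 238, 172), (238, 238, 239), (205, 205, 227), (186, 186, 206), (172, 172, 187), (15, 239, 173), (239, 239, 224), (227, 227, 219), (206, 206, 194), (187, 187, 152), (173, 173, 136), (224, 224, 218), (219, 219, 233), (194, 194, 210), (152, 152, 178), (136, 136, 143), (15, 218, 103), (218, 218, 203), (233, 233, 232), (210, 210, 229), (178, 178, 191), (143, 143, 166),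 (103, 103, 96), (15, 203, 87), (15, 232, 163), (236, 87, 230), (203, 203, 161), (232, 232, 225), (229, 229, 221), (191, 191, 209), (166, 166, 150), (96, 96, 73), (87, 87, 61), (163, 163, 147), (230, 230, 222), (15, 161, 45), (15, 225, 141), (15, 221, 107), (15, 222, 108), (236, 45, 212), (237, 45, 213), (203, 107, 193), (161, 161, 134), (225, 225, 231), (221, 221, 215), (209, 209, 196), (150, 150, 177), (73, 73, 89), (61, 61, 48), (147, 147, 174), (222, 222, 216), (45, 45, 29), (141, 141, 164), (107, 107, 111), (108, 108, 112), (212, 212, 198), (213, 213, 199), (193, 193, 155), (15, 134, 20), (15, 231, 162), (15, 215, 100), (15, 196, 80), (15, 216, 101), (15, 198, 82), (15, 199, 83), (15, 155, 39), (236, 20, 180), (236, 83, 228), (237, 20, 182), (237, 39, 208), (238, 20, 183), (218, 39, 146), (203, 80, 168), (203, 39, 125), (161, 80, 122), (134, 134, 70), (231, 231, 223), (215, 215, 200), (196, 196, 156), (177, 177, 137), (89, 89, 62), (48, 48, 30), (174, 174, 188), (216, 216,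 201), (29, 29, 10), (164, 164, 148), (111, 111, 114), (112, 112, 115), (198, 198, 157), (199, 199, 158), (155, 155, 131), (20, 20, 6), (162, 162, 135), (100, 100, 93), (80, 80, 56), (101, 101, 94), (82, 82, 57), (83, 83, 58), (39, 39, 26), (180, 180, 138), (228, 228, 220), (182, 182, 139), (208, 208, 195), (183, 183, 140), (146, 146, 98), (168, 168, 77), (125, 125, 68), (122, 122, 67), (15, 70, 4), (15, 223, 109), (15, 200, 84), (15, 156, 40), (15, 137, 22), (15, 201, 85), (15, 157, 41), (15, 158, 42), (15, 131, 17), (15, 138, 23), (15, 220, 106), (15, 139, 24), (15, 195, 79), (15, 140, 25), (15, 98, 14), (15, 77, 8), (15, 68, 2), (15, 67, 1), (236, 4, 126), (236, 24, 189), (236, 25, 190), (236, 14, 165), (236, 2, 116), (237, 4, 127), (237, 42, 211), (237, 25, 192), (237, 8, 149), (237, 1, 118), (238, 4, 128), (238, 17, 179), (238, 14, 167), (238, 2, 121), (239, 4, 129), (239, 8, 151), (239, 1, 120), (218, 14, 92), (218, 8, 75), (218, 2, 54), (218, 1, 53), (203, 22, 97), (203,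 8, 65), (203, 2, 35), (203, 1, 34), (203, 116, 202), (232, 2, 95), (87, 116, 86), (161, 22, 64), (161, 1, 13), (161, 118, 160), (225, 1, 72), (61, 118, 60), (45, 118, 44), (134, 22, 32), (134, 79, 90), (70, 106, 63), (70, 79, 31), (70, 70, 55), (223, 223, 217), (156, 156, 181), (137, 137, 144), (62, 62, 102), (30, 30, 43), (188, 188, 207), (201, 201, 159), (10, 10, 18), (148, 148, 175), (115, 115, 117), (158, 158, 132), (6, 6, 7), (135, 135, 142), (56, 56, 99), (94, 94, 71), (58, 58, 46), (138, 138, 145), (220, 220, 214), (140, 140, 76), (77, 77, 104), (67, 67, 52), (4, 4, 3), (109, 109, 113), (40, 40, 81), (22, 22, 37), (85, 85, 59), (42, 42, 27), (23, 23, 38), (106, 106, 110), (25, 25, 9), (8, 8, 16), (1, 1, 0), (126, 126, 123), (190, 190, 153), (127, 127, 124), (211, 211, 197), (192, 192, 154), (149, 149, 176), (118, 118, 119), (129, 129, 69), (151, 151, 130), (120, 120, 66), (75, 75, 91), (53, 53, 33), (97, 97, 74), (65, 65, 51), (34, 34, 12), (64, 64, 50), (13, 13, 5), (160,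 160, 133), (72, 72, 88), (60, 60, 47), (44, 44, 28), (32, 32, 11), (63, 63, 49), (15, 133, 19)]
    (by decide +kernel) (by decide +kernel) (by decide +kernel) (by decide +kernel) (by decide +kernel)

theorem two_generated_D4_q2 (hS : Rules chevD4 F) (h2 : ∀ x : F, x = 0 ∨ x = 1) :
    ∃ a b : ↥(chevD4.group F), Subgroup.closure ({a, b} : Set ↥(chevD4.group F)) = ⊤ :=
  two_generated_q2_noncomm hS h2 (List.finRange _) 1 12 2 6 7
    [(2, 2, 8), (2, 8, 0), (8, 8, 10), (0, 0, 6)]
    [(2, 2, 8), (7, 7, 11), (2, 8, 0), (2, 11, 1), (7, 11, 6), (8, 8, 10), (11, 11, 20), (1, 1, 18), (6, 6, 19), (10, 10, 21), (20, 20, 16), (18, 18, 14), (19, 19, 23), (2, 16, 5), (2, 23, 15), (8, 5, 3), (16, 16, 12), (14, 14, 22), (23, 23, 17), (5, 5, 9), (15, 15, 13), (2, 13, 4)]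
    (by decide +kernel) (by decide +kernel) (by decide +kernel) (by decide +kernel) (by decide +kernel)
    (by decide +kernel) (by decide +kernel) (by decide +kernel) (by decide +kernel) (by decide +kernel)
    (by decide +kernel) (by decide +kernel) (by decide +kernel) (by decide +kernel) (by decide +kernel)

theorem two_generated_F4_q2 (hS : Rules chevF4 F) (h2 : ∀ x : F, x = 0 ∨ x = 1) :
    ∃ a b : ↥(chevF4.group F), Subgroup.closure ({a, b} : Set ↥(chevF4.group F)) = ⊤ :=
  two_generated_q2_comm hS h2 (List.finRange _) 0 9 7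
    [(7, 7, 8), (8, 8, 18), (18, 18, 34), (34, 34, 37), (37, 37, 44), (7, 44, 33), (44, 44, 40), (33, 33, 27), (40, 40, 39), (27, 27, 35), (7, 39, 20), (39, 39, 29), (35, 35, 38), (20, 20, 12), (7, 29, 10), (7, 38, 19), (44, 10, 36), (29, 29, 13), (38, 38, 28), (12, 12, 9)]
    [(7, 7, 8), (0, 0, 15), (8, 8, 18), (15, 15, 21), (18, 18, 34), (21, 21, 41), (34, 34, 37), (41, 41, 45), (37, 37, 44), (45, 45, 46), (7, 44, 33), (0, 46, 23), (44, 44, 40), (46, 46, 47), (33, 33, 27), (23, 23, 42), (40, 40, 39), (47, 47, 32), (27, 27, 35), (42, 42, 30), (7, 46, 16), (7, 39, 20), (7, 30, 11), (0, 32, 5), (15, 39, 43), (18, 32, 28), (33, 5, 9), (47, 9, 25), (39, 39, 29), (32, 32, 26), (35, 35, 38), (16, 16, 22), (20, 20, 12), (5, 5, 17), (43, 43, 31), (28, 28, 36), (9, 9, 19), (25, 25, 24), (7, 29, 10), (7, 31, 1), (0, 26, 2), (0, 31, 4), (8, 32, 14), (40, 2, 13), (27, 2, 3), (32, 1, 6)]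
    (by decide +kernel) (by decide +kernel) (by decide +kernel) (by decide +kernel) (by decide +kernel) (by decide +kernel)
    (by decide +kernel) (by decide +kernel) (by decide +kernel) (by decide +kernel) (by decide +kernel) (by decide +kernel) (by decide +kernel)

end Cfsg.Agent.ChevTwoGen
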