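import Cfsg.Agent.ChevTwoGen.Basic

/-!
The generic two-generation theorems (owner: helper50).
-/

set_option autoImplicit false

namespace Cfsg.Agent.ChevTwoGen

open Cfsg.Lie Cfsg.Agent.ChevGrp
open scoped MatrixGroups

theorem exists_pair_of_le {G : Type*} [Group G] (H : Subgroup G) {a b : G} (ha : a ∈ H) (hb : b ∈ H)
    (h : H ≤ Subgroup.closure {a, b}) :
    ∃ x y : ↥H, Subgroup.closure ({x, y} : Set ↥H) = ⊤ := by
  refine ⟨⟨a, ha⟩, ⟨b, hb⟩, Subgroup.map_injective H.subtype_injective ?_⟩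
  rw [MonoidHom.map_closure, Set.image_pair, ← MonoidHom.range_eq_map, Subgroup.range_subtype]
  refine le_antisymm ?_ h
  rw [Subgroup.closure_le]
  rintro x (rfl | rfl)
  exacts [ha, hb]

variable {D : ChevalleyDatum} {F : Type*} [Field F] {G : Type*} [Group G] {len : ℕ → ℕ}

theorem Gbar_le_of_all (S : Sys D F G) {M : Subgroup G}
    (hL : ∀ r ∈ List.range D.nroots, Known S M r) : S.Gbar ≤ M := by
  rw [Sys.Gbar, Subgroup.closure_le]
  rintro _ ⟨r, hr, t, rfl⟩
  exact (hL r (List.mem_range.2 hr)).2 t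

theorem nW_pw (S : Sys D F G) (w : List (Fin D.rank)) : ∀ j : ℕ, S.nW (pw w j) = S.nW w ^ j
  | 0 => by simp [pw, Sys.nW]
  | j + 1 => by rw [pw, List.replicate_succ, List.flatten_cons, Sys.nW_append, ← pw, nW_pw S w j, pow_succ']

theorem exists_gen (F : Type*) [Field F] [Finite F] : ∃ g : Fˣ, ∀ u : Fˣ, u ∈ Submonoid.powers g :=
  IsCyclic.exists_monoid_generator

section Seeds

variable [Finite F] (S : Sys D F G) {M : Subgroup G}

/-- `h x_c(1) ∈ M` with `h` in the torus fixing `c` gives both factors and the translated root subgroup. -/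
theorem seed_root (hS : Rules D F) (hR : RootTable D len) (hM : S.HMul) {g : Fˣ}
    (hg : ∀ u : Fˣ, u ∈ Submonoid.powers g) (v : List ℤ) {c : ℕ} (hc : c < D.nroots) (hc0 : expo D v c = 0)
    (ha : S.tau hS hR hM (fun j => g ^ v.getD j.val 0) * S.x c 1 ∈ M) :
    S.x c 1 ∈ M ∧ S.tau hS hR hM (fun j => g ^ v.getD j.val 0) ∈ M := by
  set γ : Fin D.rank → Fˣ := fun j => g ^ v.getD j.val 0
  set h := S.tau hS hR hM γ with hh
  have hcom : Commute h (S.x c 1) := by
    have e := tau_conj S hS hR hM γ c hc 1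
    rw [prod_expo, hc0, zpow_zero, Units.val_one, one_mul] at e
    exact mul_inv_eq_iff_eq_mul.1 e
  cases nonempty_fintype F
  have hpow : h ^ (Fintype.card F - 1) = 1 := by
    classical
    rw [hh, ← map_pow, show γ ^ (Fintype.card F - 1) = 1 from funext fun j => ?_, map_one]
    rw [Pi.pow_apply, Pi.one_apply, ← Fintype.card_units, pow_card_eq_one]
  have hn : ∀ k : ℕ, S.x c (1 : F) ^ k = S.x c (k : F) := by
    intro k
    induction k with
    | zero => rw [pow_zero, Nat.cast_zero, S.x_zero hc]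
    | succ k ih => rw [pow_succ, ih, S.x_add c hc, Nat.cast_succ]
  have hm : ((Fintype.card F - 1 : ℕ) : F) = -1 := by
    rw [Nat.cast_sub Fintype.card_pos, Nat.cast_one, Nat.cast_card_eq_zero, zero_sub]
  have h1 := pow_mem ha (Fintype.card F - 1)
  rw [hcom.mul_pow, hpow, one_mul, hn, hm, ← S.x_inv hc] at h1
  have h2 := inv_mem h1
  rw [inv_inv] at h2
  exact ⟨h2, (M.mul_mem_cancel_right h2).1 ha⟩

/-- A root element moved by a power of `n` and hit by the torus gives a root subgroup. -/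
theorem known_moved (hS : Rules D F) (hR : RootTable D len) (hM : S.HMul) {g : Fˣ}
    (hg : ∀ u : Fˣ, u ∈ Submonoid.powers g) (v : List ℤ) {c : ℕ} (hc : c < D.nroots) {n : G} (hn : n ∈ M)
    {w : List (Fin D.rank)} (hw : S.ConjP n w) (hh : S.tau hS hR hM (fun j => g ^ v.getD j.val 0) ∈ M)
    (hx : S.x c 1 ∈ M)
    (he : expo D v (act D w c) = 1 ∨ expo D v (act D w c) = -1 ∨ expo D v (act D w c) = 2 ∨
      expo D v (act D w c) = -2) : Known S M (act D w c) := by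
  obtain ⟨a, ha, hna⟩ := hw
  refine known_of_torus S M (hR.act_lt w hc) hh hg he (fun t => ?_)
    (t₀ := a c * 1) (mul_ne_zero (right_ne_zero_of_mul_eq_one (ha c hc)) one_ne_zero) ?_
  · rw [tau_conj S hS hR hM _ _ (hR.act_lt w hc), prod_expo]
  · rw [← hna c hc 1]
    exact mul_mem (mul_mem hn hx) (inv_mem hn)

theorem zpow_val_ne_one {g : Fˣ} (hg : ∀ u : Fˣ, u ∈ Submonoid.powers g) (hF : ∃ x : F, x ≠ 0 ∧ x ≠ 1)
    {e : ℤ} (he : e = 1 ∨ e = -1) : ((g ^ e : Fˣ) : F) ≠ 1 := by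
  intro h
  obtain ⟨x, hx0, hx1⟩ := hF
  obtain ⟨k, hk⟩ := Submonoid.mem_powers_iff _ _ |>.1 (hg (Units.mk0 x hx0))
  have h' : g ^ e = 1 := Units.ext h
  have hg1 : g = 1 := by rcases he with rfl | rfl <;> simpa using h'
  rw [hg1, one_pow] at hk
  exact hx1 (by simpa using (congrArg Units.val hk).symm)

/-- `h ∈ M` and `x_d(1) n ∈ M` give `X_d ≤ M`, if `h` moves `d` and its preimage under `n`. -/
theorem known_twisted (hS : Rules D F) (hR : RootTable D len) (hM : S.HMul) {g : Fˣ}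
    (hg : ∀ u : Fˣ, u ∈ Submonoid.powers g) (hF : ∃ x : F, x ≠ 0 ∧ x ≠ 1) (v : List ℤ)
    {w : List (Fin D.rank)} {d₀ : ℕ} (hd : d₀ < D.nroots)
    (he0 : expo D v d₀ = 1 ∨ expo D v d₀ = -1)
    (he : expo D v (act D w d₀) = 1 ∨ expo D v (act D w d₀) = -1)
    (hh : S.tau hS hR hM (fun j => g ^ v.getD j.val 0) ∈ M)
    (hb : S.x (act D w d₀) 1 * S.nW w ∈ M) : Known S M (act D w d₀) := by
  set γ : Fin D.rank → Fˣ := fun j => g ^ v.getD j.val 0
  set h := S.tau hS hR hM γ with hhdef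
  set d := act D w d₀ with hddef
  have hdl : d < D.nroots := hR.act_lt w hd
  have hH : h ∈ S.Hbar := by rw [← S.tau_range hS hR hM]; exact ⟨γ, rfl⟩
  obtain ⟨al, hal, hna⟩ := S.conjP_nW hS hR w
  have hal0 : al d₀ ≠ 0 := right_ne_zero_of_mul_eq_one (hal d₀ hd)
  set μ : F := ((g ^ expo D v d : Fˣ) : F) with hμ
  set μ₀ : F := ((g ^ expo D v d₀ : Fˣ) : F) with hμ₀
  have c1 : ∀ t, h * S.x d t * h⁻¹ = S.x d (μ * t) := fun t => by
    rw [hhdef, tau_conj S hS hR hM γ d hdl, prod_expo]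
  have c0 : ∀ t, h * S.x d₀ t * h⁻¹ = S.x d₀ (μ₀ * t) := fun t => by
    rw [hhdef, tau_conj S hS hR hM γ d₀ hd, prod_expo]
  set k := S.nW w * h * (S.nW w)⁻¹ with hk
  have hcomm : h * k = k * h := S.Hbar_comm hS hR hM h hH k (S.nW_conj_Hbar hS hR w hH)
  have c2 : ∀ t, k * S.x d t * k⁻¹ = S.x d (μ₀ * t) := fun t => by
    have e := hna d₀ hd (t / al d₀)
    rw [mul_div_cancel₀ t hal0] at e
    rw [hddef, ← e,
      show k * (S.nW w * S.x d₀ (t / al d₀) * (S.nW w)⁻¹) * k⁻¹ =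
        S.nW w * (h * S.x d₀ (t / al d₀) * h⁻¹) * (S.nW w)⁻¹ by rw [hk]; group,
      c0, hna d₀ hd]
    congr 1
    field_simp
  have hy : S.x d 1 * k * (S.x d 1)⁻¹ ∈ M := by
    have := mul_mem (mul_mem hb hh) (inv_mem hb)
    rwa [show S.x d 1 * S.nW w * h * (S.x d 1 * S.nW w)⁻¹ = S.x d 1 * k * (S.x d 1)⁻¹ by
      rw [hk]; group] at this
  have hy' : S.x d (1 - μ₀) * k ∈ M := by
    rwa [show S.x d 1 * k * (S.x d 1)⁻¹ = S.x d (1 - μ₀) * k by
      rw [sub_eq_add_neg, ← S.x_add d hdl, mul_assoc (S.x d 1) (S.x d (-μ₀)), S.x_inv hdl,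
        show -μ₀ = μ₀ * (-1) by ring, ← c2]
      group] at hy
  have hz : h * (S.x d (1 - μ₀) * k) * h⁻¹ = S.x d (μ * (1 - μ₀)) * k := by
    calc h * (S.x d (1 - μ₀) * k) * h⁻¹ = (h * S.x d (1 - μ₀) * h⁻¹) * (h * k * h⁻¹) := by group
      _ = _ := by rw [c1, show h * k * h⁻¹ = k by rw [hcomm]; group]
  have hzm := mul_mem (mul_mem (mul_mem hh hy') (inv_mem hh)) (inv_mem hy')
  rw [hz, show S.x d (μ * (1 - μ₀)) * k * (S.x d (1 - μ₀) * k)⁻¹ =
    S.x d (μ * (1 - μ₀)) * (S.x d (1 - μ₀))⁻¹ by group, S.x_inv hdl, S.x_add d hdl] at hzm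
  refine known_of_torus S M hdl hh hg (he.elim Or.inl fun h => Or.inr (Or.inl h)) c1 ?_ hzm
  rw [show μ * (1 - μ₀) + -(1 - μ₀) = (μ - 1) * (1 - μ₀) by ring]
  exact mul_ne_zero (sub_ne_zero.2 (zpow_val_ne_one hg hF he))
    (sub_ne_zero.2 (zpow_val_ne_one hg hF he0).symm)

end Seeds

/-- One seed: types with all roots in one length class. -/
theorem two_generated_one [Finite F] (hS : Rules D F) (w : List (Fin D.rank)) (v : List ℤ) (c j k : ℕ)
    (ps : List (ℕ × ℕ × ℕ)) (hc : c < D.nroots) (hc0 : expo D v c = 0)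
    (he : expo D v (act D (pw w j) c) = 1 ∨ expo D v (act D (pw w j) c) = -1 ∨
      expo D v (act D (pw w j) c) = 2 ∨ expo D v (act D (pw w j) c) = -2)
    (hk0 : act D (pw w j) c = k) (hall : chk D w (List.range D.nroots) [k] ps = true) :
    ∃ a b : ↥(D.group F), Subgroup.closure ({a, b} : Set ↥(D.group F)) = ⊤ := by
  obtain ⟨len, hR⟩ := hS.root
  obtain ⟨g, hg⟩ := exists_gen F
  set S := glSys hS with hSdef
  have hM := glSys_HMul hS hR
  set h := S.tau hS hR hM fun i => g ^ v.getD i.val 0 with hh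
  have hHG : h ∈ S.Gbar := S.Nbar_le_Gbar hS hR (S.Hbar_le_Nbar (by rw [← S.tau_range hS hR hM]; exact ⟨_, rfl⟩))
  rw [group_eq hS, ← hSdef]
  refine exists_pair_of_le _ (a := h * S.x c 1) (b := S.nW w) (mul_mem hHG (S.x_mem_Gbar hc 1))
    (S.Nbar_le_Gbar hS hR (S.nW_mem_Nbar w)) ?_
  set M := Subgroup.closure ({h * S.x c 1, S.nW w} : Set (GL D.Idx F))
  have hb : S.nW w ∈ M := Subgroup.subset_closure (by simp)
  obtain ⟨hx, hhM⟩ := seed_root S hS hR hM hg v hc hc0 (M := M) (Subgroup.subset_closure (by simp [hh]))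
  have hn : S.nW (pw w j) ∈ M := by rw [nW_pw]; exact pow_mem hb j
  have hk := known_moved S hS hR hM hg v hc hn (S.conjP_nW hS hR _) hhM hx he
  exact Gbar_le_of_all S (known_chk S M hR hb (S.conjP_nW hS hR w) ps (fun r hr => by
    rw [List.mem_singleton] at hr; exact (hr.trans hk0.symm) ▸ hk) hall)

/-- Two seeds: fields with more than two elements. -/
theorem two_generated_two [Finite F] (hS : Rules D F) (hF : ∃ x : F, x ≠ 0 ∧ x ≠ 1) (w : List (Fin D.rank))
    (v : List ℤ) (c d₀ j k k' : ℕ) (ps : List (ℕ × ℕ × ℕ)) (hc : c < D.nroots) (hd : d₀ < D.nroots)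
    (hc0 : expo D v c = 0) (he0 : expo D v d₀ = 1 ∨ expo D v d₀ = -1)
    (hed : expo D v (act D w d₀) = 1 ∨ expo D v (act D w d₀) = -1)
    (he : expo D v (act D (pw w j) c) = 1 ∨ expo D v (act D (pw w j) c) = -1 ∨
      expo D v (act D (pw w j) c) = 2 ∨ expo D v (act D (pw w j) c) = -2)
    (hk0 : act D (pw w j) c = k) (hk1 : act D w d₀ = k')
    (hall : chk D w (List.range D.nroots) [k, k'] ps = true) :
    ∃ a b : ↥(D.group F), Subgroup.closure ({a, b} : Set ↥(D.group F)) = ⊤ := by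
  obtain ⟨len, hR⟩ := hS.root
  obtain ⟨g, hg⟩ := exists_gen F
  set S := glSys hS with hSdef
  have hM := glSys_HMul hS hR
  set h := S.tau hS hR hM fun i => g ^ v.getD i.val 0 with hh
  have hHG : h ∈ S.Gbar := S.Nbar_le_Gbar hS hR (S.Hbar_le_Nbar (by rw [← S.tau_range hS hR hM]; exact ⟨_, rfl⟩))
  have hdl := hR.act_lt w hd
  rw [group_eq hS, ← hSdef]
  refine exists_pair_of_le _ (a := h * S.x c 1) (b := S.x (act D w d₀) 1 * S.nW w)
    (mul_mem hHG (S.x_mem_Gbar hc 1))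
    (mul_mem (S.x_mem_Gbar hdl 1) (S.Nbar_le_Gbar hS hR (S.nW_mem_Nbar w))) ?_
  set M := Subgroup.closure ({h * S.x c 1, S.x (act D w d₀) 1 * S.nW w} : Set (GL D.Idx F))
  have hb : S.x (act D w d₀) 1 * S.nW w ∈ M := Subgroup.subset_closure (by simp)
  obtain ⟨hx, hhM⟩ := seed_root S hS hR hM hg v hc hc0 (M := M) (Subgroup.subset_closure (by simp [hh]))
  have hkd := known_twisted S hS hR hM hg hF v hd he0 hed hhM hb
  have hn1 : S.nW w ∈ M := (M.mul_mem_cancel_left (hkd.2 1)).1 hb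
  have hn : S.nW (pw w j) ∈ M := by rw [nW_pw]; exact pow_mem hn1 j
  have hkc := known_moved S hS hR hM hg v hc hn (S.conjP_nW hS hR _) hhM hx he
  exact Gbar_le_of_all S (known_chk S M hR hn1 (S.conjP_nW hS hR w) ps (fun r hr => by
    simp only [List.mem_cons, List.not_mem_nil, or_false, ← hk0, ← hk1] at hr
    rcases hr with rfl | rfl <;> assumption) hall)

end Cfsg.Agent.ChevTwoGen
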