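import Cfsg.Agent.ChevTwoGen.Main

/-!
Two-generation over the field with two elements (owner: helper50).
-/

set_option autoImplicit false

namespace Cfsg.Agent.ChevTwoGen

open Cfsg.Lie Cfsg.Agent.ChevGrp
open scoped MatrixGroups

variable {D : ChevalleyDatum} {F : Type*} [Field F] {G : Type*} [Group G] {len : ℕ → ℕ}

theorem eq_one_of_ne_zero (h2 : ∀ x : F, x = 0 ∨ x = 1) {x : F} (hx : x ≠ 0) : x = 1 := (h2 x).resolve_left hx

theorem known_of_one (S : Sys D F G) (M : Subgroup G) (h2 : ∀ x : F, x = 0 ∨ x = 1) {r : ℕ}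
    (hr : r < D.nroots) (h : S.x r 1 ∈ M) : Known S M r := by
  refine ⟨hr, fun t => ?_⟩
  rcases h2 t with rfl | rfl
  · rw [S.x_zero hr]; exact one_mem M
  · exact h

theorem comm_empty (S : Sys D F G) {r s : ℕ} (hr : r < D.nroots) (hs : s < D.nroots) (hne : s ≠ r)
    (hn : s ≠ D.neg r) (h : D.commTerms r s = []) (t u : F) : S.x s u * S.x r t = S.x r t * S.x s u := by
  rw [S.comm r hr s hs hne hn, ChevalleyDatum.commWord, h]
  simp

theorem comm_single (S : Sys D F G) (h2 : ∀ x : F, x = 0 ∨ x = 1) {r s k : ℕ} (hr : r < D.nroots)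
    (hs : s < D.nroots) (hne : s ≠ r) (hn : s ≠ D.neg r) {C : ℤ} {i j : ℕ}
    (h : D.commTerms r s = [(k, C, i, j)]) (hC : C = 1 ∨ C = -1) :
    S.x s 1 * S.x r 1 = S.x r 1 * S.x s 1 * S.x k (1 : F) := by
  rw [S.comm r hr s hs hne hn, ChevalleyDatum.commWord, h]
  simp only [List.map_cons, List.map_nil, List.prod_cons, List.prod_nil, mul_one]
  congr 2
  refine eq_one_of_ne_zero h2 ?_
  rcases hC with rfl | rfl <;> simp

/-- `F` of two elements, `a = x_c x_d` of order four. -/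
theorem two_generated_q2_noncomm (hS : Rules D F) (h2 : ∀ x : F, x = 0 ∨ x = 1) (w : List (Fin D.rank))
    (c d u r u₂ : ℕ) (ps₁ ps₂ : List (ℕ × ℕ × ℕ)) (hc : c < D.nroots) (hd : d < D.nroots) (hu : u < D.nroots)
    (hrl : r < D.nroots) (hu₂ : u₂ < D.nroots) (h1 : d ≠ c ∧ d ≠ D.neg c)
    (hud : d ≠ u ∧ d ≠ D.neg u) (hcd : D.commTerms c d = [(u, 1, 1, 1)]) (hud0 : D.commTerms u d = [])
    (hr : chk D w [r] [u] ps₁ = true) (hcr : r ≠ c ∧ r ≠ D.neg c) (hcr0 : D.commTerms c r = [])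
    (hrd : d ≠ r ∧ d ≠ D.neg r) (hrd0 : D.commTerms r d = [(u₂, 1, 1, 1)])
    (hall : chk D w (List.range D.nroots) [u, u₂] ps₂ = true) :
    ∃ a b : ↥(D.group F), Subgroup.closure ({a, b} : Set ↥(D.group F)) = ⊤ := by
  obtain ⟨len, hR⟩ := hS.root
  set S := glSys hS with hSdef
  rw [group_eq hS, ← hSdef]
  refine exists_pair_of_le _ (a := S.x c 1 * S.x d 1) (b := S.nW w)
    (mul_mem (S.x_mem_Gbar hc 1) (S.x_mem_Gbar hd 1)) (S.Nbar_le_Gbar hS hR (S.nW_mem_Nbar w)) ?_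
  set M := Subgroup.closure ({S.x c 1 * S.x d 1, S.nW w} : Set (GL D.Idx F))
  have ha : S.x c 1 * S.x d 1 ∈ M := Subgroup.subset_closure (by simp)
  have hb : S.nW w ∈ M := Subgroup.subset_closure (by simp)
  have hw := S.conjP_nW hS hR w
  have h11 : (1 : F) + 1 = 0 := (h2 (1 + 1)).resolve_right (by simp)
  have hsq : ∀ q < D.nroots, S.x q (1 : F) * S.x q 1 = 1 := fun q hq => by
    rw [S.x_add q hq, h11, S.x_zero hq]
  have e1 : (S.x c (1 : F) * S.x d 1) * (S.x c 1 * S.x d 1) = S.x u 1 := by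
    rw [show (S.x c (1 : F) * S.x d 1) * (S.x c 1 * S.x d 1) = S.x c 1 * (S.x d 1 * S.x c 1) * S.x d 1 by
        group, comm_single S h2 hc hd h1.1 h1.2 hcd (Or.inl rfl),
      show S.x c (1 : F) * (S.x c 1 * S.x d 1 * S.x u 1) * S.x d 1 =
        (S.x c 1 * S.x c 1) * (S.x d 1 * S.x u 1) * S.x d 1 by group, hsq c hc, one_mul,
      comm_empty S hu hd hud.1 hud.2 hud0, mul_assoc, hsq d hd, mul_one]
  have hKu : Known S M u := known_of_one S M h2 hu (e1 ▸ mul_mem ha ha)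
  have hKr : Known S M r := known_chk S M hR hb hw ps₁ (fun s hs => by
    rw [List.mem_singleton] at hs; exact hs ▸ hKu) hr r (List.mem_singleton_self r)
  have e2 : S.x c 1 * S.x d 1 * S.x r 1 = S.x r 1 * (S.x c 1 * S.x d 1) * S.x u₂ (1 : F) := by
    rw [mul_assoc, comm_single S h2 hrl hd hrd.1 hrd.2 hrd0 (Or.inl rfl), ← mul_assoc, ← mul_assoc,
      ← comm_empty S hc hrl hcr.1 hcr.2 hcr0]
    group
  have hKu₂ : Known S M u₂ := known_of_one S M h2 hu₂
    ((M.mul_mem_cancel_left (mul_mem (hKr.2 1) ha)).1 (e2 ▸ mul_mem ha (hKr.2 1)))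
  exact Gbar_le_of_all S (known_chk S M hR hb hw ps₂ (fun s hs => by
    simp only [List.mem_cons, List.not_mem_nil, or_false] at hs
    rcases hs with rfl | rfl <;> assumption) hall)

/-- `F` of two elements, `a = x_c x_d` an involution. -/
theorem two_generated_q2_comm (hS : Rules D F) (h2 : ∀ x : F, x = 0 ∨ x = 1) (w : List (Fin D.rank))
    (c d u : ℕ) (ps₁ ps₂ : List (ℕ × ℕ × ℕ)) (hc : c < D.nroots) (hd : d < D.nroots) (hu : u < D.nroots)
    (h1 : act D w c ≠ c ∧ act D w c ≠ D.neg c) (h1' : D.commTerms c (act D w c) = [])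
    (h2' : act D w d ≠ c ∧ act D w d ≠ D.neg c) (h2'' : D.commTerms c (act D w d) = [])
    (h3 : d ≠ act D w c ∧ d ≠ D.neg (act D w c)) (h3' : D.commTerms (act D w c) d = [])
    (h4 : d ≠ act D w d ∧ d ≠ D.neg (act D w d)) (h4' : D.commTerms (act D w d) d = [(u, 1, 1, 1)])
    (hdS : chk D w [d] [u] ps₁ = true) (hall : chk D w (List.range D.nroots) [u, c] ps₂ = true) :
    ∃ a b : ↥(D.group F), Subgroup.closure ({a, b} : Set ↥(D.group F)) = ⊤ := by
  obtain ⟨len, hR⟩ := hS.root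
  set S := glSys hS with hSdef
  rw [group_eq hS, ← hSdef]
  refine exists_pair_of_le _ (a := S.x c 1 * S.x d 1) (b := S.nW w)
    (mul_mem (S.x_mem_Gbar hc 1) (S.x_mem_Gbar hd 1)) (S.Nbar_le_Gbar hS hR (S.nW_mem_Nbar w)) ?_
  set M := Subgroup.closure ({S.x c 1 * S.x d 1, S.nW w} : Set (GL D.Idx F))
  have ha : S.x c 1 * S.x d 1 ∈ M := Subgroup.subset_closure (by simp)
  have hb : S.nW w ∈ M := Subgroup.subset_closure (by simp)
  obtain ⟨al, hal, hna⟩ := S.conjP_nW hS hR w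
  set c' := act D w c with hc'
  set d' := act D w d with hd'
  have hcl : c' < D.nroots := hR.act_lt w hc
  have hdl : d' < D.nroots := hR.act_lt w hd
  have hB : S.x c' 1 * S.x d' 1 ∈ M := by
    have := mul_mem (mul_mem hb ha) (inv_mem hb)
    rwa [show S.nW w * (S.x c 1 * S.x d 1) * (S.nW w)⁻¹ =
        (S.nW w * S.x c 1 * (S.nW w)⁻¹) * (S.nW w * S.x d 1 * (S.nW w)⁻¹) by group,
      hna c hc, hna d hd, mul_one, mul_one,
      eq_one_of_ne_zero h2 (right_ne_zero_of_mul_eq_one (hal c hc)),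
      eq_one_of_ne_zero h2 (right_ne_zero_of_mul_eq_one (hal d hd))] at this
  have e : (S.x c (1 : F) * S.x d 1) * (S.x c' 1 * S.x d' 1) =
      (S.x c' 1 * S.x d' 1) * (S.x c 1 * S.x d 1) * S.x u 1 := by
    rw [show (S.x c (1 : F) * S.x d 1) * (S.x c' 1 * S.x d' 1) =
        S.x c 1 * (S.x d 1 * S.x c' 1) * S.x d' 1 by group,
      comm_empty S hcl hd h3.1 h3.2 h3',
      show S.x c (1 : F) * (S.x c' 1 * S.x d 1) * S.x d' 1 =
        S.x c 1 * S.x c' 1 * (S.x d 1 * S.x d' 1) by group,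
      comm_single S h2 hdl hd h4.1 h4.2 h4' (Or.inl rfl), ← comm_empty S hc hcl h1.1 h1.2 h1',
      show S.x c' (1 : F) * S.x c 1 * (S.x d' 1 * S.x d 1 * S.x u 1) =
        S.x c' 1 * (S.x c 1 * S.x d' 1) * S.x d 1 * S.x u 1 by group,
      ← comm_empty S hc hdl h2'.1 h2'.2 h2'']
    group
  have hKu : Known S M u := known_of_one S M h2 hu
    ((M.mul_mem_cancel_left (mul_mem hB ha)).1 (e ▸ mul_mem ha hB))
  have hw := S.conjP_nW hS hR w
  have hKd : Known S M d := known_chk S M hR hb hw ps₁ (fun s hs => by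
    rw [List.mem_singleton] at hs; exact hs ▸ hKu) hdS d (List.mem_singleton_self d)
  have hKc : Known S M c := known_of_one S M h2 hc ((M.mul_mem_cancel_right (hKd.2 1)).1 ha)
  exact Gbar_le_of_all S (known_chk S M hR hb hw ps₂ (fun s hs => by
    simp only [List.mem_cons, List.not_mem_nil, or_false] at hs
    rcases hs with rfl | rfl <;> assumption) hall)

end Cfsg.Agent.ChevTwoGen
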